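import Groth.Agent.FittLib.Comap
import Groth.Agent.FibCrit.Stalk
import Groth.Agent.FibRegOpen.Alg
import Groth.Agent.InjFibre.SliceScheme
import Groth.Prelude.Def_BlowUp2
import Groth.Prelude.Def_CurvBase

/-!
# Relative effective Cartier divisors from the fibres
-/

universe u

set_option autoImplicit false
set_option linter.style.haveILetI false
set_option backward.isDefEq.respectTransparency false

open CategoryTheory AlgebraicGeometry TopologicalSpace IsLocalRing RingTheory.Sequence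

namespace Groth.Agent.RelCartier

open Groth.Agent.InjFibre

variable {X S : Scheme.{u}}

/-- The stalk of an ideal sheaf, computed on an affine open. -/
noncomputable abbrev stI (𝓘 : X.IdealSheafData) {W : X.affineOpens} {x : X} (hx : x ∈ W.1) : Ideal (X.presheaf.stalk x) :=
  (𝓘.ideal W).map (X.presheaf.germ W.1 x hx).hom

theorem stI_eq_of_le (𝓘 : X.IdealSheafData) {U W : X.affineOpens} (h : U.1 ≤ W.1) {x : X} (hx : x ∈ U.1) :
    stI 𝓘 (h hx) = stI 𝓘 hx := by
  rw [stI, stI, ← 𝓘.map_ideal h, Ideal.map_map, ← CommRingCat.hom_comp]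
  congr 1
  exact congrArg CommRingCat.Hom.hom (X.presheaf.germ_res (homOfLE h) x hx).symm

theorem stI_eq (𝓘 : X.IdealSheafData) {U W : X.affineOpens} {x : X} (hU : x ∈ U.1) (hW : x ∈ W.1) :
    stI 𝓘 hU = stI 𝓘 hW := by
  obtain ⟨O, hO, hxO, hOU⟩ := exists_isAffineOpen_mem_and_subset (X := X) (x := x) (U := U.1 ⊓ W.1) ⟨hU, hW⟩
  exact (stI_eq_of_le 𝓘 (U := ⟨O, hO⟩) (fun y hy => (hOU hy).1) hxO).trans
    (stI_eq_of_le 𝓘 (U := ⟨O, hO⟩) (fun y hy => (hOU hy).2) hxO).symm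

/-- An element whose quotient by an ideal of the base is a regular generator. -/
theorem isSMulRegular_of_span_eq {R : Type u} [CommRing R] {c d : R} (hc : IsSMulRegular R c)
    (h : Ideal.span {d} = Ideal.span ({c} : Set R)) : IsSMulRegular R d := by
  obtain ⟨r, hr⟩ := Ideal.mem_span_singleton'.1 (h.le (Ideal.mem_span_singleton_self d))
  obtain ⟨s, hs⟩ := Ideal.mem_span_singleton'.1 (h.ge (Ideal.mem_span_singleton_self c))
  have h1 : s * r = 1 := hc (by simp only [smul_eq_mul]; linear_combination s * hr + hs)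
  intro a b hab
  refine hc ?_
  simp only [smul_eq_mul, ← hr] at hab ⊢
  calc c * a = s * (r * c * a) := by linear_combination (-(c * a)) * h1
    _ = s * (r * c * b) := by rw [hab]
    _ = c * b := by linear_combination (c * b) * h1

/-- The ideal on the fibre at `x`. -/
theorem exists_fibre_generator (φ : X ⟶ S) (𝓘 : X.IdealSheafData)
    (hfib : ∀ s : ↥S, BlowUp.IsEffCartierIdeal (𝓘.comap (φ.fiberι s))) {W : X.affineOpens} {x : X} (hx : x ∈ W.1) :
    ∃ c : X.presheaf.stalk x ⧸ (maximalIdeal (S.presheaf.stalk (φ x))).map (φ.stalkMap x).hom,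
      IsSMulRegular (X.presheaf.stalk x ⧸ (maximalIdeal (S.presheaf.stalk (φ x))).map (φ.stalkMap x).hom) c ∧
      (stI 𝓘 hx).map (Ideal.Quotient.mk _) = Ideal.span {c} := by
  suffices key : ∀ (s : S) (v : ↥(φ.fiber s)) (x : X), φ.fiberι s v = x → ∀ hx : x ∈ W.1,
      ∃ c : X.presheaf.stalk x ⧸ (maximalIdeal (S.presheaf.stalk (φ x))).map (φ.stalkMap x).hom,
        IsSMulRegular (X.presheaf.stalk x ⧸ (maximalIdeal (S.presheaf.stalk (φ x))).map (φ.stalkMap x).hom) c ∧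
        (stI 𝓘 hx).map (Ideal.Quotient.mk _) = Ideal.span {c} by
    obtain ⟨v, hv⟩ : x ∈ Set.range (φ.fiberι (φ x)) := by rw [φ.range_fiberι]; rfl
    exact key _ v x hv hx
  rintro s v _ rfl hx
  let ι := φ.fiberι s
  let R := X.presheaf.stalk (ι v)
  let Rv := (φ.fiber s).presheaf.stalk v
  obtain ⟨hsurj, hker⟩ := FibCrit.fiberι_stalkMap φ s v
  let J : Ideal R := (maximalIdeal (S.presheaf.stalk (φ (ι v)))).map (φ.stalkMap (ι v)).hom
  obtain ⟨U, hvU, f, hf, hU⟩ := hfib s v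
  obtain ⟨O, hO, hvO, hOW⟩ := exists_isAffineOpen_mem_and_subset (X := φ.fiber s) (x := v) (U := U.1 ⊓ ι ⁻¹ᵁ W.1) ⟨hvU, hx⟩
  have h1 : stI (𝓘.comap ι) (W := ⟨O, hO⟩) hvO = (stI 𝓘 hx).map (ι.stalkMap v).hom := by
    rw [stI, stI, FittLib.comap_ideal ι 𝓘 W.2 hO (fun y hy => (hOW hy).2), Ideal.map_map, Ideal.map_map]
    congr 1
    exact RingHom.ext fun a => (FibCrit.germ_comm ι W.1 O (fun y hy => (hOW hy).2) v hvO a).symm
  letI := TopCat.Presheaf.algebra_section_stalk (φ.fiber s).presheaf (⟨v, hvU⟩ : U.1)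
  haveI : IsLocalization.AtPrime Rv (U.2.primeIdealOf ⟨v, hvU⟩).asIdeal := U.2.isLocalization_stalk ⟨v, hvU⟩
  let fv : Rv := algebraMap Γ(φ.fiber s, U.1) Rv f
  have hreg : IsSMulRegular Rv fv :=
    IsSMulRegular.of_isLocalization Rv (U.2.primeIdealOf ⟨v, hvU⟩).asIdeal.primeCompl fun a b hab =>
      (mem_nonZeroDivisors_iff_right.1 hf (a - b) (by simp only [smul_eq_mul] at hab; rw [sub_mul, mul_comm a, hab, mul_comm f, sub_self])) |> sub_eq_zero.1
  have h2 : stI (𝓘.comap ι) (W := ⟨O, hO⟩) hvO = Ideal.span {fv} := by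
    rw [stI_eq (𝓘.comap ι) (U := ⟨O, hO⟩) (W := U) hvO hvU, stI, hU, Ideal.map_span, Set.image_singleton]
    rfl
  let e : (R ⧸ J) ≃+* Rv :=
    (Ideal.quotEquivOfEq (show J = RingHom.ker (ι.stalkMap v).hom from hker.symm)).trans
      (RingHom.quotientKerEquivOfSurjective hsurj)
  have he : e.toRingHom.comp (Ideal.Quotient.mk J) = (ι.stalkMap v).hom := RingHom.ext fun a => rfl
  refine ⟨e.symm fv, fun a b hab => e.injective (hreg ?_), ?_⟩
  · have := congrArg e hab
    simpa [smul_eq_mul, map_mul] using this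
  · have h3 : ((stI 𝓘 hx).map (Ideal.Quotient.mk J)).map e.toRingHom = (Ideal.span {e.symm fv}).map e.toRingHom := by
      rw [Ideal.map_map, he, ← h1, h2, Ideal.map_span, Set.image_singleton]
      simp
    have h4 := congrArg (Ideal.map e.symm.toRingHom) h3
    rwa [Ideal.map_map (e.toRingHom), Ideal.map_map (e.toRingHom),
      show e.symm.toRingHom.comp e.toRingHom = RingHom.id _ from RingHom.ext e.symm_apply_apply, Ideal.map_id, Ideal.map_id] at h4

/-- From a generator of the stalk ideal with regular image on the fibre: a chart. -/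
theorem exists_chart (φ : X ⟶ S) [Flat φ] [LocallyOfFinitePresentation φ] (𝓘 : X.IdealSheafData) {W : X.affineOpens}
    (hfg : (𝓘.ideal W).FG) {x : X} (hx : x ∈ W.1) (c : X.presheaf.stalk x) (hc : stI 𝓘 hx = Ideal.span {c})
    (hreg : IsSMulRegular (X.presheaf.stalk x ⧸ (maximalIdeal (S.presheaf.stalk (φ x))).map (φ.stalkMap x).hom)
      (Ideal.Quotient.mk ((maximalIdeal (S.presheaf.stalk (φ x))).map (φ.stalkMap x).hom) c)) :
    ∃ (V : S.Opens) (_ : IsAffineOpen V) (U : X.affineOpens) (_ : x ∈ U.1) (e : U.1 ≤ φ ⁻¹ᵁ V) (g : Γ(X, U.1)),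
      g ∈ nonZeroDivisors Γ(X, U.1) ∧ 𝓘.ideal U = Ideal.span {g} ∧
        letI : Algebra Γ(S, V) Γ(X, U.1) := (φ.appLE V U.1 e).hom.toAlgebra
        Module.Flat Γ(S, V) (Γ(X, U.1) ⧸ Ideal.span {g}) := by
  classical
  obtain ⟨V, hV, U₁, hU₁, hxU₁, e₁, l, hl, hlreg, hlflat⟩ := exists_slice φ x (Flat.stalkMap φ x) [c]
    ((isWeaklyRegular_cons_iff _ _ _).2 ⟨hreg, IsWeaklyRegular.nil _ _⟩)
  obtain ⟨g₁, rfl⟩ : ∃ g₁, l = [g₁] := by
    match l, hl with
    | [g], _ => exact ⟨g, rfl⟩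
  simp only [List.map_cons, List.map_nil, List.cons.injEq, and_true] at hl
  -- a chart inside both
  obtain ⟨O, hO, hxO, hOle⟩ := exists_isAffineOpen_mem_and_subset (X := X) (x := x) (U := W.1 ⊓ U₁) ⟨hx, hxU₁⟩
  have hOW : O ≤ W.1 := fun y hy => (hOle hy).1
  have hOU : O ≤ U₁ := fun y hy => (hOle hy).2
  let gO : Γ(X, O) := X.presheaf.map (homOfLE hOU).op g₁
  let q := (hO.primeIdealOf ⟨x, hxO⟩).asIdeal
  letI := TopCat.Presheaf.algebra_section_stalk X.presheaf (⟨x, hxO⟩ : O)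
  haveI : IsLocalization.AtPrime (X.presheaf.stalk x) q := hO.isLocalization_stalk ⟨x, hxO⟩
  have hgO : algebraMap Γ(X, O) (X.presheaf.stalk x) gO = c := (X.presheaf.germ_res_apply (homOfLE hOU) x hxO g₁).trans hl
  have hst : (𝓘.ideal ⟨O, hO⟩).map (algebraMap Γ(X, O) (X.presheaf.stalk x)) =
      (Ideal.span {gO}).map (algebraMap Γ(X, O) (X.presheaf.stalk x)) := by
    rw [Ideal.map_span, Set.image_singleton, hgO, ← hc]
    exact (stI_eq_of_le 𝓘 (U := ⟨O, hO⟩) hOW hxO).symm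
  have hfgO : (𝓘.ideal ⟨O, hO⟩).FG := by
    rw [← 𝓘.map_ideal (U := ⟨O, hO⟩) (V := W) hOW]
    exact hfg.map _
  -- an element inverting both inclusions
  have hloc : ∀ (I K : Ideal Γ(X, O)), K.FG → I.map (algebraMap Γ(X, O) (X.presheaf.stalk x)) =
      K.map (algebraMap Γ(X, O) (X.presheaf.stalk x)) → ∃ h ∉ q, ∀ a ∈ K, h * a ∈ I := by
    intro I K hK heq
    obtain ⟨T, rfl⟩ := hK
    have hT : ∀ t ∈ T, ∃ h ∉ q, h * t ∈ I := fun t ht => by
      obtain ⟨h, hh, hmem⟩ := (IsLocalization.algebraMap_mem_map_algebraMap_iff q.primeCompl (X.presheaf.stalk x) I t).1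
        (heq.ge (Ideal.mem_map_of_mem _ (Ideal.subset_span ht)))
      exact ⟨h, hh, hmem⟩
    choose! h hh hmem using hT
    refine ⟨∏ t ∈ T, h t, ?_, fun a ha => ?_⟩
    · exact fun hm => by
        obtain ⟨t, ht, hq⟩ := (Ideal.IsPrime.prod_mem_iff (p := q)).1 hm
        exact hh t ht hq
    · have : Ideal.span (T : Set Γ(X, O)) ≤ I.colon {∏ t ∈ T, h t} := Ideal.span_le.2 fun t ht => by
        rw [SetLike.mem_coe, Submodule.mem_colon_singleton]
        obtain ⟨d, hd⟩ := Finset.dvd_prod_of_mem h ht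
        rw [smul_eq_mul, hd, show t * (h t * d) = d * (h t * t) by ring]
        exact I.mul_mem_left _ (hmem t ht)
      have h5 := this ha
      rwa [Submodule.mem_colon_singleton, smul_eq_mul, mul_comm] at h5
  obtain ⟨h₁, hh₁, hle₁⟩ := hloc (Ideal.span {gO}) (𝓘.ideal ⟨O, hO⟩) hfgO hst.symm
  obtain ⟨h₂, hh₂, hle₂⟩ := hloc (𝓘.ideal ⟨O, hO⟩) (Ideal.span {gO}) (Submodule.fg_span_singleton gO) hst
  let h := h₁ * h₂
  have hxh : x ∈ X.basicOpen h := by
    by_contra hn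
    exact (Ideal.IsPrime.mem_or_mem inferInstance (not_not.1 fun hq => hn ((WeakAssLib.mem_primeIdealOf hO hxO h).2 hq))).elim hh₁ hh₂
  let U : X.affineOpens := ⟨X.basicOpen h, hO.basicOpen h⟩
  have hUO : U.1 ≤ O := X.basicOpen_le h
  let g : Γ(X, U.1) := X.presheaf.map (homOfLE hUO).op gO
  have hu : IsUnit (X.presheaf.map (homOfLE hUO).op h) := RingedSpace.isUnit_res_basicOpen _ h
  have hI : 𝓘.ideal U = Ideal.span {g} := by
    rw [← 𝓘.map_ideal (U := U) (V := ⟨O, hO⟩) hUO]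
    refine le_antisymm (Ideal.map_le_iff_le_comap.2 fun a ha => ?_) (Ideal.span_le.2 (Set.singleton_subset_iff.2 ?_))
    · obtain ⟨r, hr⟩ := Ideal.mem_span_singleton'.1 (Ideal.mul_mem_left _ h₂ (hle₁ a ha))
      refine (Ideal.unit_mul_mem_iff_mem _ hu).1 (Ideal.mem_span_singleton'.2 ⟨X.presheaf.map (homOfLE hUO).op r, ?_⟩)
      refine ((map_mul (X.presheaf.map (homOfLE hUO).op).hom r gO).symm.trans ?_).trans
        (map_mul (X.presheaf.map (homOfLE hUO).op).hom h a)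
      rw [hr]
      congr 1
      simp only [h]
      ring
    · refine (Ideal.unit_mul_mem_iff_mem _ hu).1 ?_
      rw [← map_mul, show h * gO = h₁ * (h₂ * gO) by ring]
      exact Ideal.mem_map_of_mem _ (Ideal.mul_mem_left _ h₁ (hle₂ gO (Ideal.mem_span_singleton_self gO)))
  -- regularity and flatness on the smaller chart
  let e : U.1 ≤ φ ⁻¹ᵁ V := (hUO.trans hOU).trans e₁
  letI : Algebra Γ(S, V) Γ(X, U₁) := (φ.appLE V U₁ e₁).hom.toAlgebra
  letI : Algebra Γ(S, V) Γ(X, U.1) := (φ.appLE V U.1 e).hom.toAlgebra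
  have hall : ∀ q₀ : PrimeSpectrum Γ(X, U₁), SeqAt Γ(S, V) [g₁] q₀ := fun q₀ => by
    refine ⟨fun i hi a ha => ?_, fun i hi => ?_⟩
    · obtain ⟨b, hb, hba⟩ := ha
      exact ⟨b, hb, (isWeaklyRegular_ring_iff _).1 hlreg i hi (b * a) (by rwa [mul_left_comm])⟩
    · haveI := hlflat i hi
      exact flat_localized q₀.asIdeal.primeCompl (LocalizedModule.mkLinearMap q₀.asIdeal.primeCompl _)
  have hg : g = X.presheaf.map (homOfLE (hUO.trans hOU)).op g₁ := by
    change X.presheaf.map _ (X.presheaf.map _ g₁) = _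
    rw [← CommRingCat.comp_apply, ← X.presheaf.map_comp]
    rfl
  obtain ⟨hgreg, hgflat⟩ := isWeaklyRegular_of_seqAt (R := Γ(S, V)) [g] fun p => by
    obtain ⟨hy, hyp⟩ := primeIdealOf_fromSpec U.2 p
    have h2 := (seqAt_chart φ hV hU₁ e₁ (U.2.fromSpec p) ((hUO.trans hOU) hy) [g₁]).1 (hall _)
    rw [← hyp, seqAt_chart φ hV U.2 e (U.2.fromSpec p) hy [g]]
    have hl' : [g].map (X.presheaf.germ U.1 _ hy).hom = [g₁].map (X.presheaf.germ U₁ _ ((hUO.trans hOU) hy)).hom := by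
      simp only [List.map_cons, List.map_nil, hg]
      congr 1
      exact X.presheaf.germ_res_apply _ _ _ _
    rw [hl']
    exact h2
  refine ⟨V, hV, U, hxh, e, g, ?_, hI, ?_⟩
  · rw [mem_nonZeroDivisors_iff_right]
    exact fun a ha => ((isWeaklyRegular_cons_iff _ _ _).1 hgreg).1.right_eq_zero_of_smul (by rwa [smul_eq_mul, mul_comm])
  · haveI := hgflat 1 (by simp)
    exact Module.Flat.of_linearEquiv ((Submodule.quotEquivOfEq (Ideal.span {g}) (Ideal.ofList (List.take 1 [g]))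
      (by rw [List.take_of_length_le (by simp), Ideal.ofList_singleton])).restrictScalars Γ(S, V))

end Groth.Agent.RelCartier
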