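import Groth.Agent.RelCartier.Basic

/-!
# The stalk ideal of a flat family of divisors is principal
-/

universe u

set_option autoImplicit false
set_option linter.style.haveILetI false
set_option backward.isDefEq.respectTransparency false

open CategoryTheory AlgebraicGeometry TopologicalSpace IsLocalRing

namespace Groth.Agent.RelCartier

/-- Algebra: lifting a generator modulo the ideal of the base. -/
theorem le_span_of_flat {A B : Type u} [CommRing A] [CommRing B] [IsLocalRing B] [Algebra A B] (p : Ideal A)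
    (hp : p.map (algebraMap A B) ≤ maximalIdeal B) (I : Ideal B) (hI : I.FG) [Module.Flat A (B ⧸ I)] (c : B) (hc : c ∈ I)
    (h : I.map (Ideal.Quotient.mk (p.map (algebraMap A B))) ≤
      Ideal.span {Ideal.Quotient.mk (p.map (algebraMap A B)) c}) : I = Ideal.span {c} := by
  refine le_antisymm ?_ ((Ideal.span_singleton_le_iff_mem _).2 hc)
  refine Submodule.le_of_le_smul_of_le_jacobson_bot (I := p.map (algebraMap A B)) hI
    (hp.trans (IsLocalRing.maximalIdeal_le_jacobson ⊥)) fun a ha => ?_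
  obtain ⟨r, hr⟩ := Ideal.mem_span_singleton'.1 (h (Ideal.mem_map_of_mem _ ha))
  obtain ⟨r, rfl⟩ := Ideal.Quotient.mk_surjective r
  rw [← map_mul, Ideal.Quotient.eq] at hr
  let d : I := ⟨a - r * c, sub_mem ha (I.mul_mem_left r hc)⟩
  have hd : ((Submodule.subtype I).restrictScalars A) d ∈ p • (⊤ : Submodule A B) := by
    change a - r * c ∈ p • (⊤ : Submodule A B)
    rw [← InjFibre.mem_smul_top_iff (B := B), Ideal.smul_top_eq_map, Algebra.algebraMap_self, Ideal.map_id,
      Submodule.restrictScalars_mem]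
    simpa using neg_mem hr
  have h1 : d ∈ p • (⊤ : Submodule A I) :=
    FibRegOpen.mem_smul_of_exact ((Ideal.Quotient.mkₐ A I).toLinearMap) Ideal.Quotient.mk_surjective
      ((Submodule.subtype I).restrictScalars A) Subtype.val_injective
      (fun z => Ideal.Quotient.eq_zero_iff_mem.trans ⟨fun hz => ⟨⟨z, hz⟩, rfl⟩, fun ⟨w, hw⟩ => hw ▸ w.2⟩) p d hd
  rw [← InjFibre.mem_smul_top_iff (B := B), Submodule.mem_smul_top_iff] at h1
  exact Submodule.mem_sup.2 ⟨r * c, Ideal.mem_span_singleton'.2 ⟨r, rfl⟩, _, h1, by simp [d]⟩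

variable {X S : Scheme.{u}}

/-- At each point a generator whose image on the fibre is regular. -/
theorem exists_generator_of_flat (φ : X ⟶ S) [LocallyOfFinitePresentation φ] (𝓘 : X.IdealSheafData)
    [Flat (𝓘.subschemeι ≫ φ)] [LocallyOfFinitePresentation (𝓘.subschemeι ≫ φ)]
    (hfib : ∀ s : ↥S, BlowUp.IsEffCartierIdeal (𝓘.comap (φ.fiberι s))) (x : X) :
    ∃ (W : X.affineOpens) (hx : x ∈ W.1), (𝓘.ideal W).FG ∧ ∃ c : X.presheaf.stalk x, stI 𝓘 hx = Ideal.span {c} ∧
      IsSMulRegular (X.presheaf.stalk x ⧸ (maximalIdeal (S.presheaf.stalk (φ x))).map (φ.stalkMap x).hom)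
        (Ideal.Quotient.mk ((maximalIdeal (S.presheaf.stalk (φ x))).map (φ.stalkMap x).hom) c) := by
  obtain ⟨V, hV, hyV, -⟩ := exists_isAffineOpen_mem_and_subset (X := S) (x := φ x) (U := ⊤) trivial
  obtain ⟨W₀, hW, hxW, hWV⟩ := exists_isAffineOpen_mem_and_subset (X := X) (x := x) (U := φ ⁻¹ᵁ V) hyV
  let W : X.affineOpens := ⟨W₀, hW⟩
  let ι := 𝓘.subschemeι
  let A := Γ(S, V)
  let B := Γ(X, W₀)
  let Z := Γ(𝓘.subscheme, ι ⁻¹ᵁ W₀)
  have hZ : IsAffineOpen (ι ⁻¹ᵁ W₀) := hW.preimage ι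
  have eZ : ι ⁻¹ᵁ W₀ ≤ (ι ≫ φ) ⁻¹ᵁ V := fun z hz => hWV hz
  letI : Algebra A B := (φ.appLE V W₀ hWV).hom.toAlgebra
  letI : Algebra A Z := ((ι ≫ φ).appLE V (ι ⁻¹ᵁ W₀) eZ).hom.toAlgebra
  haveI : Algebra.FinitePresentation A B := φ.finitePresentation_appLE hV hW hWV
  haveI : Algebra.FinitePresentation A Z := (ι ≫ φ).finitePresentation_appLE hV hZ eZ
  haveI : Module.Flat A Z := (ι ≫ φ).flat_appLE hV hZ eZ
  have hcomm : ∀ a : A, (ι.app W₀).hom (algebraMap A B a) = algebraMap A Z a := fun a => by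
    change (φ.appLE V W₀ hWV ≫ ι.app W₀) a = _
    rw [Scheme.Hom.app_eq_appLE, Scheme.Hom.appLE_comp_appLE]
    rfl
  let π : B →ₐ[A] Z := { (ι.app W₀).hom with commutes' := hcomm }
  have hπ : Function.Surjective π := Scheme.IdealSheafData.subschemeι_app_surjective (I := 𝓘) W
  have hker : RingHom.ker π.toRingHom = 𝓘.ideal W := Scheme.IdealSheafData.ker_subschemeι_app (I := 𝓘) W
  have hfg : (𝓘.ideal W).FG := hker ▸ Algebra.FinitePresentation.ker_fG_of_surjective π hπ
  haveI hfl : Module.Flat A (B ⧸ 𝓘.ideal W) :=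
    Module.Flat.of_linearEquiv ((Ideal.quotientEquivAlgOfEq A hker.symm).trans
      (Ideal.quotientKerAlgEquivOfSurjective hπ)).toLinearEquiv
  -- in the local ring
  let R := X.presheaf.stalk x
  let q := (hW.primeIdealOf ⟨x, hxW⟩).asIdeal
  letI := TopCat.Presheaf.algebra_section_stalk X.presheaf (⟨x, hxW⟩ : W₀)
  haveI : IsLocalization.AtPrime R q := hW.isLocalization_stalk ⟨x, hxW⟩
  letI : Algebra A R := ((algebraMap B R).comp (algebraMap A B)).toAlgebra
  haveI : IsScalarTower A B R := IsScalarTower.of_algebraMap_eq fun _ => rfl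
  have hloc : (𝓘.ideal W).localized' R q.primeCompl (Algebra.linearMap B R) = stI 𝓘 (W := W) hxW :=
    Ideal.localized'_eq_map _ _ _
  haveI : Module.Flat A (R ⧸ (𝓘.ideal W).localized' R q.primeCompl (Algebra.linearMap B R)) :=
    InjFibre.flat_localized q.primeCompl ((𝓘.ideal W).toLocalizedQuotient' R q.primeCompl (Algebra.linearMap B R))
  haveI : Module.Flat A (R ⧸ stI 𝓘 (W := W) hxW) :=
    Module.Flat.of_linearEquiv ((Submodule.quotEquivOfEq _ _ hloc.symm).restrictScalars A)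
  let p := (hV.primeIdealOf ⟨φ x, hWV hxW⟩).asIdeal
  have hp : p.map (algebraMap A R) = (maximalIdeal (S.presheaf.stalk (φ x))).map (φ.stalkMap x).hom := by
    letI := TopCat.Presheaf.algebra_section_stalk S.presheaf (⟨φ x, hWV hxW⟩ : V)
    haveI : IsLocalization.AtPrime (S.presheaf.stalk (φ x)) p := hV.isLocalization_stalk ⟨φ x, hWV hxW⟩
    rw [← IsLocalization.AtPrime.map_eq_maximalIdeal p, Ideal.map_map]
    congr 1
    exact RingHom.ext fun a => (FibCrit.germ_comm φ V W₀ hWV x hxW a).symm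
  obtain ⟨c', hc', hspan⟩ := exists_fibre_generator φ 𝓘 hfib (W := W) hxW
  obtain ⟨c, hc, rfl⟩ := (Ideal.mem_map_iff_of_surjective _ Ideal.Quotient.mk_surjective).1
    (hspan.ge (Ideal.mem_span_singleton_self c'))
  refine ⟨W, hxW, hfg, c, ?_, hc'⟩
  refine le_span_of_flat p ?_ _ (hfg.map _) c hc ?_
  · rw [hp]
    exact Ideal.map_le_iff_le_comap.2 fun a ha => map_nonunit _ a ha
  · rw [hp]
    exact hspan.le

end Groth.Agent.RelCartier
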